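import Groth.Agent.Lefpen.H723.P1Simply
import Groth.Agent.CurvSt.K896.TailBridge
import Groth.Agent.Fdesc.GeomAlgClosed
import Groth.Agent.Ega1.GenPts
import Groth.Agent.CalgA.RegBasic
import Groth.Agent.S1535
import Groth.Agent.S0265
import Groth.Prelude.Def_Curve
import Mathlib.AlgebraicGeometry.AlgClosed.Basic

/-!
# Connected finite étale covers of `E × P¹` are products
-/

set_option autoImplicit false
universe u
open CategoryTheory CategoryTheory.Limits AlgebraicGeometry TopologicalSpace

namespace K137.ProdCov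

open Groth.Agent

/-- A smooth connected scheme over an algebraically closed field is integral. -/
theorem isIntegral_of_connected {k : Type u} [Field k] [IsAlgClosed k] {Y : Scheme.{u}}
    (q : Y ⟶ Spec (CommRingCat.of k)) [Smooth q] [ConnectedSpace Y] : IsIntegral Y := by
  have : IsLocallyNoetherian Y := LocallyOfFiniteType.isLocallyNoetherian q
  refine (Groth.Agent.Ega1.GenPts.isIntegral_iff Y).2 ⟨inferInstance, fun x => ?_⟩
  let o : Y.Over (Spec (CommRingCat.of k)) := ⟨q⟩
  have h : Smooth (Y ↘ (Spec (CommRingCat.of k))) := inferInstanceAs (Smooth q)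
  have : IsRegularLocalRing (Y.presheaf.stalk x) := Groth.Agent.S1535.result k Y x
  exact Groth.Agent.CalgA.RegBasic.isDomain _

/-- A smooth proper curve of genus zero is the projective line. -/
theorem exists_iso_P1 {k : Type u} [Field k] [IsAlgClosed k] {C : Scheme.{u}}
    (qC : C ⟶ Spec (CommRingCat.of k)) (hC : Curve.IsSmoothProperCurve k C qC)
    (hC0 : @Curv2.genus k _ C ⟨qC⟩ = 0) :
    ∃ e : C ≅ CohB1.ProjSpace 1 k, e.hom ≫ CohB1.ProjSpace.toSpec 1 k = qC := by
  obtain ⟨h1, h2, h3, h4⟩ := hC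
  let o : C.Over (Spec (CommRingCat.of k)) := ⟨qC⟩
  have hp : IsProper (C ↘ (Spec (CommRingCat.of k))) := h1
  have hN : IsLocallyNoetherian C := LocallyOfFiniteType.isLocallyNoetherian qC
  have hfin : Module.Finite k (Coh.HH C (Coh.structureModule C) 1) :=
    Groth.Agent.S0002.result k C _ (CurvesC.UnitCoh.isCoh_unit C) 1
  have hsub : Subsingleton (Coh.HH C (Coh.structureModule C) 1) :=
    Module.finrank_zero_iff.1 hC0
  exact K896.TailBridge.exists_iso_P1 k C h4 hsub

/-- A finite étale cover of a connected scheme by a nonempty scheme is surjective. -/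
theorem surjective_of_finite_etale {X P : Scheme.{u}} (φ : X ⟶ P) [Nonempty X] [ConnectedSpace P]
    [IsFinite φ] [Etale φ] : Surjective φ := by
  refine ⟨Set.range_eq_univ.1 ?_⟩
  exact (IsClopen.eq_univ ⟨φ.isClosedMap.isClosed_range, φ.isOpenMap.isOpen_range⟩ (Set.range_nonempty φ))

/-- Over a scheme mapping to the base through the projective line a nonempty finite étale cover has a lift. -/
theorem exists_lift {k : Type u} [Field k] [IsAlgClosed k] {X P : Scheme.{u}} (φ : X ⟶ P)
    [IsFinite φ] [Etale φ] [Surjective φ] (b : CohB1.ProjSpace 1 k ⟶ P) :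
    ∃ τ : CohB1.ProjSpace 1 k ⟶ X, τ ≫ φ = b := by
  obtain ⟨ι, hι, e, he⟩ : ∃ (ι : Type u) (_ : Finite ι) (e : pullback φ b ≅ ∐ fun _ : ι => CohB1.ProjSpace 1 k),
      ∀ i : ι, Sigma.ι (fun _ : ι => CohB1.ProjSpace 1 k) i ≫ e.inv ≫ pullback.snd φ b = 𝟙 _ :=
    Lefpen.H723.P1Simply.isSplit k
      (MorphismProperty.Over.mk ⊤ (pullback.snd φ b) ⟨inferInstance, inferInstance⟩ : FEt.Cat (CohB1.ProjSpace 1 k))
  have hne : Nonempty ι := by
    by_contra h
    rw [not_nonempty_iff] at h
    have h1 : Nonempty (CohB1.ProjSpace 1 k) := inferInstance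
    obtain ⟨x⟩ := h1
    obtain ⟨z, hz⟩ := (pullback.snd φ b).surjective x
    exact h.elim ((sigmaMk (fun _ : ι => CohB1.ProjSpace 1 k)).symm (e.hom z)).1
  obtain ⟨i⟩ := hne
  refine ⟨(Sigma.ι (fun _ : ι => CohB1.ProjSpace 1 k) i ≫ e.inv) ≫ pullback.fst φ b, ?_⟩
  have h2 := he i
  rw [Category.assoc, pullback.condition, ← Category.assoc]
  have h3 : (Sigma.ι (fun _ : ι => CohB1.ProjSpace 1 k) i ≫ e.inv) ≫ pullback.snd φ b = 𝟙 _ := by
    rw [Category.assoc]; exact h2
  rw [h3, Category.id_comp]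

/-- A `k`-point of a proper curve. -/
theorem exists_point {k : Type u} [Field k] [IsAlgClosed k] {E : Scheme.{u}}
    (qE : E ⟶ Spec (CommRingCat.of k)) [LocallyOfFiniteType qE] [Nonempty E] :
    ∃ s : Spec (CommRingCat.of k) ⟶ E, s ≫ qE = 𝟙 _ := by
  have hjac : JacobsonSpace E := LocallyOfFiniteType.jacobsonSpace qE
  obtain ⟨x, -, hx⟩ := nonempty_inter_closedPoints (Z := (Set.univ : Set E)) Set.univ_nonempty isOpen_univ.isLocallyClosed
  exact ⟨pointOfClosedPoint qE x hx, pointOfClosedPoint_comp qE x hx⟩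

theorem exists_product (k : Type u) [Field k] [IsAlgClosed k] {X C E : Scheme.{u}}
    (qE : E ⟶ Spec (CommRingCat.of k)) (qC : C ⟶ Spec (CommRingCat.of k)) (hE : Curve.IsSmoothProperCurve k E qE)
    (hC : Curve.IsSmoothProperCurve k C qC) (hC0 : @Curv2.genus k _ C ⟨qC⟩ = 0)
    (φ : X ⟶ pullback qE qC) [ConnectedSpace X] [IsFinite φ] [Etale φ] :
    ∃ (F : Scheme.{u}) (q : F ⟶ Spec (CommRingCat.of k)) (e : X ≅ pullback q qC),
      e.hom ≫ pullback.snd q qC = φ ≫ pullback.snd qE qC := by
  obtain ⟨a, ha⟩ := exists_iso_P1 qC hC hC0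
  obtain ⟨hE1, hE2, hE3, hE4⟩ := hE
  obtain ⟨hC1, hC2, hC3, hC4⟩ := hC
  obtain ⟨s, hs⟩ := exists_point qE
  have hgc : GeometricallyConnected qC := Fdesc.GeomAlgClosed.geometricallyConnected_of_connectedSpace qC
  have hgcf : GeometricallyConnected (pullback.fst qE qC) := inferInstance
  have hcP : ConnectedSpace ↥(pullback qE qC) := inferInstance
  have hsurj : Surjective φ := surjective_of_finite_etale φ
  obtain ⟨τ, hτ⟩ := exists_lift (k := k) φ (pullback.lift ((a.inv ≫ qC) ≫ s) a.inv (by
    rw [Category.assoc, hs, Category.comp_id]))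
  -- the fibre
  have hσ : (((pullback.fst (pullback.fst qE qC) s ≫ pullback.snd qE qC) ≫ a.hom) ≫ τ) ≫ φ =
      pullback.fst (pullback.fst qE qC) s := by
    rw [Category.assoc, hτ]
    apply pullback.hom_ext
    · simp only [Category.assoc, pullback.lift_fst, Iso.hom_inv_id_assoc]
      have h5 : pullback.fst (pullback.fst qE qC) s ≫ pullback.snd qE qC ≫ qC =
          pullback.snd (pullback.fst qE qC) s := by
        rw [← pullback.condition, ← Category.assoc, pullback.condition, Category.assoc, hs, Category.comp_id]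
      rw [← Category.assoc, ← Category.assoc, Category.assoc _ _ qC, h5, ← pullback.condition]
    · simp only [Category.assoc, pullback.lift_snd, Iso.hom_inv_id, Category.comp_id]
  let Y : FEt.Cat (pullback qE qC) := MorphismProperty.Over.mk ⊤ φ ⟨inferInstance, inferInstance⟩
  have hY : ConnectedSpace Y.left := inferInstanceAs (ConnectedSpace X)
  obtain ⟨F, ⟨i⟩⟩ := Groth.Agent.S0265.result (pullback.fst qE qC) (fun Ω _ _ t => by
    have h1 : ConnectedSpace ↥(pullback (pullback.fst qE qC) t) :=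
      hgcf.geometrically_connectedSpace _ _ _ (.of_hasPullback _ _)
    have h2 : IsIntegral (pullback (pullback.fst qE qC) t) :=
      isIntegral_of_connected (pullback.snd (pullback.fst qE qC) t)
    exact ⟨h1, inferInstance⟩) Y k s _ hσ
  let e0 : pullback F.hom (pullback.fst qE qC) ≅ X :=
    (MorphismProperty.Over.forget FEt.prop ⊤ _ ⋙ Over.forget _).mapIso i
  have he0 : e0.hom ≫ φ = pullback.snd F.hom (pullback.fst qE qC) := MorphismProperty.Over.w i.hom
  have he1 : e0.inv ≫ pullback.snd F.hom (pullback.fst qE qC) = φ := by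
    rw [← he0, Iso.inv_hom_id_assoc]
  refine ⟨F.left, F.hom ≫ qE, e0.symm ≪≫ pullbackRightPullbackFstIso qE qC F.hom, ?_⟩
  rw [Iso.trans_hom, Iso.symm_hom, Category.assoc, pullbackRightPullbackFstIso_hom_snd, ← Category.assoc, he1]

end K137.ProdCov
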